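import Groth.Prelude.Def_EGA4b
import Groth.Agent.S1182
import Groth.Agent.SchTop.Closed
import Groth.Agent.RatSecExt.Basic
import Groth.Agent.FlatBirLib.Basic
import Groth.Agent.FlatPtDesc.Basic
import Groth.Agent.NmpLocalize.Main
import Mathlib

/-! # The extension property for the smooth locus of a finite normal cover -/

universe u

open CategoryTheory Limits AlgebraicGeometry TopologicalSpace

set_option backward.isDefEq.respectTransparency false
set_option backward.isDefEq.respectTransparency.types false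

noncomputable section

namespace Groth.Agent.NmpFinite

/-- A scheme smooth over a normal scheme is normal. -/
theorem isNormalScheme_of_smooth {S Z : Scheme.{u}} (hS : Pi1.IsNormalScheme S) (f : Z ⟶ S)
    [Smooth f] : Pi1.IsNormalScheme Z := fun z => by
  obtain ⟨_, ⟨(V : S.Opens), hV, rfl⟩, hzV, -⟩ :=
    S.isBasis_affineOpens.exists_subset_of_mem_open (Set.mem_univ (f z)) isOpen_univ
  obtain ⟨_, ⟨(U : Z.Opens), hU, rfl⟩, hzU, hUV⟩ :=
    Z.isBasis_affineOpens.exists_subset_of_mem_open (show z ∈ f ⁻¹ᵁ V from hzV) (f ⁻¹ᵁ V).isOpen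
  letI := (f.appLE V U hUV).hom.toAlgebra
  haveI : Algebra.Smooth Γ(S, V) Γ(Z, U) := f.smooth_appLE hV hU hUV
  have hA : EGA4.IsNormalRing Γ(S, V) := fun p _ => by
    have hx : hV.fromSpec ⟨p, inferInstance⟩ ∈ V := hV.range_fromSpec.subset (Set.mem_range_self _)
    obtain ⟨e⟩ := Groth.Agent.SchTop.nonempty_stalk_equiv hV hx
    rw [show hV.primeIdealOf ⟨_, hx⟩ = ⟨p, inferInstance⟩ from
      hV.fromSpec.isOpenEmbedding.injective (hV.fromSpec_primeIdealOf _)] at e
    obtain ⟨hd, hn⟩ := hS (hV.fromSpec ⟨p, inferInstance⟩)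
    exact ⟨MulEquiv.isDomain_iff e.toMulEquiv |>.1 hd, haveI := hn; IsIntegrallyClosed.of_equiv e⟩
  obtain ⟨hd, hn⟩ := (S1182.result Γ(S, V) Γ(Z, U)).1 hA (hU.primeIdealOf ⟨z, hzU⟩).asIdeal
  obtain ⟨e⟩ := Groth.Agent.SchTop.nonempty_stalk_equiv hU hzU
  exact ⟨MulEquiv.isDomain_iff e.toMulEquiv |>.2 hd, haveI := hn; IsIntegrallyClosed.of_equiv e.symm⟩

/-- A section of a separated quasi-finite map from a normal scheme is a local isomorphism. -/
theorem exists_isOpenImmersion_near_section {W Z : Scheme.{u}} [IsLocallyNoetherian W]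
    (hW : Pi1.IsNormalScheme W) (q : W ⟶ Z) [LocallyQuasiFinite q] [LocallyOfFiniteType q]
    [IsSeparated q] (s : Z ⟶ W) (hs : s ≫ q = 𝟙 Z) (z : Z) :
    ∃ C : W.Opens, s z ∈ C ∧ IsOpenImmersion (C.ι ≫ q) := by
  obtain ⟨C, hzC, hCint⟩ := S4647.result (𝟙 W) (fun x => (hW x).1) (fun y => by
    obtain ⟨_, ⟨A, hA, rfl⟩, hyA, -⟩ := W.isBasis_affineOpens.exists_subset_of_mem_open
      (Set.mem_univ y) isOpen_univ
    haveI := IsLocallyNoetherian.component_noetherian ⟨A, hA⟩
    exact ⟨A, hyA, noetherianSpace_of_isAffineOpen A hA⟩) (s z)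
  haveI := hCint
  haveI : Nonempty C.toScheme := ⟨⟨s z, hzC⟩⟩
  refine ⟨C, hzC, ?_⟩
  haveI : IsClosedImmersion s := by
    have : IsClosedImmersion (s ≫ q) := by rw [hs]; infer_instance
    exact IsClosedImmersion.of_comp s q
  let c := C.ι (genericPoint C.toScheme)
  have hgen : ∀ w ∈ C, c ⤳ w := fun w hw =>
    (genericPoint_specializes (α := ↥C.toScheme) ⟨w, hw⟩).map C.ι.continuous
  have hsq : ∀ a, q (s a) = a := fun a => by rw [← Scheme.Hom.comp_apply, hs]; rfl
  let ζ := q c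
  have hζz : ζ ⤳ z := by
    have := (hgen _ hzC).map q.continuous
    rwa [hsq] at this
  have hsζ : s ζ ∈ C := (hζz.map s.continuous).mem_open C.isOpen hzC
  have hc : c = s ζ := by
    have hdisc := locallyQuasiFinite_iff_isDiscrete_preimage_singleton.1 ‹_› ζ
    rw [isDiscrete_iff_discreteTopology] at hdisc
    obtain ⟨O, hO, hO'⟩ := isOpen_induced_iff.1
      (isOpen_discrete ({⟨s ζ, hsq ζ⟩} : Set ↥(q ⁻¹' {ζ})))
    have h1 : s ζ ∈ O := by
      have : (⟨s ζ, hsq ζ⟩ : ↥(q ⁻¹' {ζ})) ∈ Subtype.val ⁻¹' O := hO' ▸ rfl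
      exact this
    have h2 : (⟨c, rfl⟩ : ↥(q ⁻¹' {ζ})) ∈ Subtype.val ⁻¹' O := ((hgen _ hsζ).mem_open hO h1)
    rw [hO'] at h2
    exact congrArg Subtype.val h2
  haveI : Surjective (s ∣_ C) := ⟨fun w => by
    have hw : (C.ι w) ∈ Set.range s := (hgen _ w.2).mem_closed s.isClosedEmbedding.isClosed_range
      ⟨ζ, hc.symm⟩
    obtain ⟨a, ha⟩ := hw
    refine ⟨⟨a, show s a ∈ C by rw [ha]; exact w.2⟩, ?_⟩
    apply C.ι.isOpenEmbedding.injective
    rw [← Scheme.Hom.comp_apply, morphismRestrict_ι]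
    exact ha⟩
  haveI : IsClosedImmersion (s ∣_ C) := IsZariskiLocalAtTarget.restrict ‹_› C
  haveI : IsIso (s ∣_ C) := isIso_of_isClosedImmersion_of_surjective _
  have : C.ι ≫ q = inv (s ∣_ C) ≫ (s ⁻¹ᵁ C).ι := by
    rw [IsIso.eq_inv_comp, morphismRestrict_ι_assoc, hs, Category.comp_id]
  rw [this]
  infer_instance

theorem hasExt_smoothLocus {S T : Scheme.{u}} [IsLocallyNoetherian S] (hS : Pi1.IsNormalScheme S)
    (U : S.Opens) (hU : CInt.IsSchematicallyDense U) (π : T ⟶ S) [IsFinite π]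
    [LocallyOfFinitePresentation π] (hT : Pi1.IsNormalScheme T) :
    NmpLocalize.HasExt U (π.smoothLocus.ι ≫ π) := by
  haveI : IsSeparated (π.smoothLocus.ι ≫ π) := inferInstance
  refine ⟨fun {Z} q _ a b ha hb hab => ?_, fun {Z} q _ h hh => ?_⟩
  · exact NmpDescent.ext_dense q (π.smoothLocus.ι ≫ π) U hU a b (ha.trans hb.symm) ha hab
  haveI : IsLocallyNoetherian Z := LocallyOfFiniteType.isLocallyNoetherian q
  haveI : IsLocallyNoetherian T := LocallyOfFiniteType.isLocallyNoetherian π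
  haveI : IsLocallyNoetherian (pullback π q) :=
    LocallyOfFiniteType.isLocallyNoetherian (pullback.fst π q)
  have hZ := isNormalScheme_of_smooth hS q
  have hW := isNormalScheme_of_smooth hT (pullback.fst π q)
  let O := q ⁻¹ᵁ U
  have hOd : Dense (O : Set Z) := by
    haveI : IsSchemeTheoreticallyDominant O.ι :=
      ⟨(AlgSpDec.SchDenseFacts.iff_ker_eq_bot O).1 (FlatBirLib.preimage_of_flat q U hU)⟩
    have := O.ι.denseRange
    rwa [DenseRange, Scheme.Opens.range_ι] at this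
  let v : O.toScheme ⟶ pullback π q := pullback.lift (h ≫ π.smoothLocus.ι) O.ι (by
    rw [Category.assoc]; exact hh)
  haveI : LocallyQuasiFinite (pullback.snd π q) := inferInstance
  have hex : ValuativeCriterion.Existence (pullback.snd π q) := by
    have h1 : UniversallyClosed (pullback.snd π q) := inferInstance
    rw [UniversallyClosed.eq_valuativeCriterion] at h1
    exact h1.1
  obtain ⟨w, hw, hwO⟩ := RatSecExt.exists_section (pullback.snd π q) hZ hex O hOd v
    (pullback.lift_snd _ _ _)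
  have hmem : ∀ z, (w ≫ pullback.fst π q) z ∈ π.smoothLocus := fun z => by
    obtain ⟨C, hzC, hC⟩ := exists_isOpenImmersion_near_section hW (pullback.snd π q) w hw z
    haveI := hC
    haveI : Flat q := inferInstance
    obtain ⟨V, hzV, hV⟩ := FlatPtDesc.etale_nhd_descend π q (w z) (Flat.stalkMap q _)
      ⟨C, hzC, inferInstance⟩
    exact (FlatPtDesc.exists_smooth_nhd_iff π _).1 ⟨V, hzV, inferInstance⟩
  have hrg : Set.range (w ≫ pullback.fst π q) ⊆ Set.range π.smoothLocus.ι := by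
    rw [Scheme.Opens.range_ι]
    rintro _ ⟨z, rfl⟩
    exact hmem z
  let d := IsOpenImmersion.lift π.smoothLocus.ι _ hrg
  have hd : d ≫ π.smoothLocus.ι = w ≫ pullback.fst π q := IsOpenImmersion.lift_fac _ _ _
  refine ⟨d, ?_, ?_⟩
  · rw [reassoc_of% hd, pullback.condition, reassoc_of% hw]
  · rw [← cancel_mono π.smoothLocus.ι, Category.assoc, hd, ← Category.assoc, hwO]
    exact pullback.lift_fst _ _ _

end Groth.Agent.NmpFinite
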